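import Groth.Prelude.Def_FlatCA
import Mathlib

/-! Associated primes of `N ⊗[R] M` meet the closed fibre: endomorphisms congruent to the identity
modulo `I` are injective after tensoring. -/

set_option autoImplicit false

universe u

open TensorProduct

namespace Groth.Agent.AssSupLib

variable {R : Type u} [CommRing R] (I : Ideal R)
variable {N : Type u} [AddCommGroup N] [Module R N]
variable (M : Type u) [AddCommGroup M] [Module R M]

/-- Every finite subset of `N` lies in a finite direct summand. -/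
def FinSummands (R : Type u) [CommRing R] (N : Type u) [AddCommGroup N] [Module R N] : Prop :=
  ∀ s : Finset N, ∃ (K : Submodule R N) (p : N →ₗ[R] K), Module.Finite R K ∧ (∀ x : K, p x = x) ∧ ∀ n ∈ s, n ∈ K

theorem exists_mem_range (ξ : N ⊗[R] M) :
    ∃ s : Finset N, ∀ K : Submodule R N, (∀ n ∈ s, n ∈ K) → ξ ∈ LinearMap.range (K.subtype.rTensor M) := by
  classical
  induction ξ using TensorProduct.induction_on with
  | zero => exact ⟨∅, fun K _ => Submodule.zero_mem _⟩
  | tmul n m => exact ⟨{n}, fun K h => ⟨⟨n, h n (Finset.mem_singleton_self n)⟩ ⊗ₜ m, rfl⟩⟩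
  | add a b ha hb =>
    obtain ⟨s, hs⟩ := ha
    obtain ⟨t, ht⟩ := hb
    exact ⟨s ∪ t, fun K h => Submodule.add_mem _ (hs K fun n hn => h n (Finset.mem_union_left _ hn))
      (ht K fun n hn => h n (Finset.mem_union_right _ hn))⟩

theorem eq_zero_of_finSummands (hI : I ≤ Ideal.jacobson ⊥) (hN : FinSummands R N) (φ : N →ₗ[R] N)
    (hφ : ∀ n, φ n - n ∈ I • (⊤ : Submodule R N)) (ξ : N ⊗[R] M) (hξ : φ.rTensor M ξ = 0) : ξ = 0 := by
  obtain ⟨s, hs⟩ := exists_mem_range M ξ
  obtain ⟨K, p, hK, hp, hsK⟩ := hN s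
  obtain ⟨η, rfl⟩ := hs K hsK
  let g : K →ₗ[R] K := p ∘ₗ φ ∘ₗ K.subtype
  have hg : ∀ k : K, g k - k ∈ I • (⊤ : Submodule R K) := fun k => by
    have h := Submodule.mem_map_of_mem (f := p) (hφ k)
    rw [Submodule.map_smul'', map_sub, hp] at h
    exact Submodule.smul_mono le_rfl le_top h
  have hsur : Function.Surjective g := by
    rw [← LinearMap.range_eq_top]
    refine top_le_iff.mp (Submodule.le_of_le_smul_of_le_jacobson_bot hK.fg_top hI fun k _ => ?_)
    rw [show k = g k - (g k - k) by abel]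
    exact Submodule.sub_mem _ (Submodule.mem_sup_left ⟨k, rfl⟩) (Submodule.mem_sup_right (hg k))
  have hbij : Function.Bijective g := ⟨OrzechProperty.injective_of_surjective_endomorphism g hsur, hsur⟩
  have h0 : g.rTensor M η = 0 := by
    simp only [g, LinearMap.rTensor_comp, LinearMap.comp_apply, hξ, map_zero]
  rw [(LinearEquiv.rTensor M (LinearEquiv.ofBijective g hbij)).map_eq_zero_iff.mp h0, map_zero]

theorem finSummands_finsupp (α : Type u) : FinSummands R (α →₀ R) := fun s => by
  classical
  let t : Finset α := s.biUnion Finsupp.support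
  refine ⟨Finsupp.supported R R (t : Set α), Finsupp.restrictDom R R (t : Set α), ?_, fun x => ?_, fun n hn => ?_⟩
  · exact Module.Finite.equiv (Finsupp.supportedEquivFinsupp (t : Set α)).symm
  · exact LinearMap.congr_fun (Finsupp.restrictDom_comp_subtype (M := R) (R := R) (t : Set α)) x
  · exact (Finsupp.mem_supported R n).mpr (Finset.coe_subset.mpr (Finset.subset_biUnion_of_mem Finsupp.support hn))

theorem finSummands_isInternal {ι : Type u} {F : ι → Submodule R N} [DecidableEq ι] (hF : DirectSum.IsInternal F)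
    (hfin : ∀ i, Module.Finite R (F i)) : FinSummands R N := fun s => by
  classical
  let e : (DirectSum ι fun i => F i) ≃ₗ[R] N := LinearEquiv.ofBijective (DirectSum.coeLinearMap F) hF
  let t : Finset ι := s.biUnion fun n => DFinsupp.support (e.symm n)
  let p : N →ₗ[R] N := ∑ i ∈ t, (F i).subtype ∘ₗ DirectSum.component R ι (fun i => F i) i ∘ₗ e.symm.toLinearMap
  let K : Submodule R N := t.sup F
  have hpK : ∀ n, p n ∈ K := fun n => by
    simp only [p, LinearMap.sum_apply]
    exact Submodule.sum_mem _ fun i hi => (Finset.le_sup hi : F i ≤ K) (SetLike.coe_mem _)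
  refine ⟨K, p.codRestrict K hpK, ?_, ?_, ?_⟩
  · exact Module.Finite.iff_fg.mpr (Submodule.fg_finset_sup t F fun i _ => Module.Finite.iff_fg.mp (hfin i))
  · intro x
    have : K ≤ LinearMap.eqLocus p LinearMap.id := Finset.sup_le fun j hj y hy => by
      have he : e.symm y = DirectSum.lof R ι (fun i => F i) j ⟨y, hy⟩ := by
        rw [LinearEquiv.symm_apply_eq]
        exact (DirectSum.coeLinearMap_lof F j ⟨y, hy⟩).symm
      show p y = y
      simp only [p, LinearMap.sum_apply, LinearMap.comp_apply, LinearEquiv.coe_coe, he]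
      rw [Finset.sum_eq_single j (fun i _ hij => ?_) (fun h => absurd hj h), DirectSum.component.lof_self]
      · rfl
      · rw [DirectSum.component.of, dif_neg (Ne.symm hij), map_zero]
    exact Subtype.ext (this x.2)
  · intro n hn
    rw [← e.apply_symm_apply n, show e (e.symm n) = DirectSum.coeLinearMap F (e.symm n) from rfl,
      DirectSum.coeLinearMap_eq_dfinsuppSum]
    exact Submodule.sum_mem _ fun i hi => (Finset.le_sup (Finset.mem_biUnion.mpr ⟨n, hn, hi⟩) : F i ≤ K) (SetLike.coe_mem _)

theorem eq_zero_of_projective (hI : I ≤ Ideal.jacobson ⊥) [Module.Projective R N] (φ : N →ₗ[R] N)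
    (hφ : ∀ n, φ n - n ∈ I • (⊤ : Submodule R N)) (ξ : N ⊗[R] M) (hξ : φ.rTensor M ξ = 0) : ξ = 0 := by
  obtain ⟨s, hs⟩ := Module.projective_def'.mp ‹Module.Projective R N›
  let π : (N →₀ R) →ₗ[R] N := Finsupp.linearCombination R id
  let ψ : (N →₀ R) →ₗ[R] (N →₀ R) := LinearMap.id + s ∘ₗ (φ - LinearMap.id) ∘ₗ π
  have hψ : ∀ x, ψ x - x ∈ I • (⊤ : Submodule R (N →₀ R)) := fun x => by
    have h := Submodule.mem_map_of_mem (f := s) (hφ (π x))
    rw [Submodule.map_smul''] at h
    rw [show ψ x - x = s (φ (π x) - π x) by simp [ψ]]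
    exact Submodule.smul_mono le_rfl le_top h
  have hcomm : ψ ∘ₗ s = s ∘ₗ φ := LinearMap.ext fun n => by
    have h : π (s n) = n := LinearMap.congr_fun hs n
    simp [ψ, h]
  have h0 : ψ.rTensor M (s.rTensor M ξ) = 0 := by
    rw [← LinearMap.comp_apply, ← LinearMap.rTensor_comp, hcomm, LinearMap.rTensor_comp, LinearMap.comp_apply, hξ, map_zero]
  have h1 := eq_zero_of_finSummands I M hI (finSummands_finsupp N) ψ hψ _ h0
  have h2 := congrArg (π.rTensor M) h1
  rwa [← LinearMap.comp_apply, ← LinearMap.rTensor_comp, hs, LinearMap.rTensor_id, map_zero] at h2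

theorem eq_zero_of_isAdicComplete [IsAdicComplete I N] (φ : N →ₗ[R] N)
    (hφ : ∀ n, φ n - n ∈ I • (⊤ : Submodule R N)) (ξ : N ⊗[R] M) (hξ : φ.rTensor M ξ = 0) : ξ = 0 := by
  let ψ : N →ₗ[R] N := LinearMap.id - φ
  have hψ : ∀ k, ∀ n ∈ (I ^ k • ⊤ : Submodule R N), ψ n ∈ (I ^ (k + 1) • ⊤ : Submodule R N) := fun k n hn => by
    have h := Submodule.mem_map_of_mem (f := ψ) hn
    rw [Submodule.map_smul''] at h
    have hr : Submodule.map ψ ⊤ ≤ I • ⊤ := by
      rintro _ ⟨x, -, rfl⟩
      rw [show ψ x = -(φ x - x) by simp [ψ]]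
      exact Submodule.neg_mem _ (hφ x)
    refine (?_ : (I ^ k) • Submodule.map ψ ⊤ ≤ I ^ (k + 1) • ⊤) h
    rw [pow_succ, mul_smul]
    exact Submodule.smul_mono le_rfl hr
  have hpow : ∀ k n, (ψ ^ k) n ∈ (I ^ k • ⊤ : Submodule R N) := fun k n => by
    induction k with
    | zero => simp
    | succ k ih => rw [pow_succ' ψ, Module.End.mul_apply]; exact hψ k _ ih
  have hbij : Function.Bijective φ := by
    constructor
    · rw [← LinearMap.ker_eq_bot, LinearMap.ker_eq_bot']
      intro n hn
      refine IsHausdorff.haus' (I := I) n fun k => SModEq.zero.mpr ?_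
      have hfix : ψ n = n := by simp [ψ, hn]
      have : ∀ k, (ψ ^ k) n = n := fun k => by
        induction k with
        | zero => simp
        | succ k ih => rw [pow_succ', Module.End.mul_apply, ih, hfix]
      exact this k ▸ hpow k n
    · intro y
      let x : ℕ → N := fun k => ∑ i ∈ Finset.range k, (ψ ^ i) y
      obtain ⟨L, hL⟩ := IsPrecomplete.prec' (I := I) x fun {a b} hab => by
        rw [SModEq.sub_mem, ← neg_sub]
        refine Submodule.neg_mem _ ?_
        simp only [x]
        rw [← Finset.sum_Ico_eq_sub _ hab]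
        exact Submodule.sum_mem _ fun i hi =>
          Submodule.smul_mono (Ideal.pow_le_pow_right (Finset.mem_Ico.mp hi).1) le_rfl (hpow i y)
      refine ⟨L, sub_eq_zero.mp (IsHausdorff.haus' (I := I) _ fun k => SModEq.zero.mpr ?_)⟩
      have hx : φ (x k) = y - (ψ ^ k) y := by
        have hφψ : ∀ n, φ n = n - ψ n := fun n => by simp [ψ]
        induction k with
        | zero => simp [x]
        | succ k ih =>
          rw [show x (k + 1) = x k + (ψ ^ k) y from Finset.sum_range_succ _ k, map_add, ih, hφψ, pow_succ',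
            Module.End.mul_apply]
          abel
      have hd := SModEq.sub_mem.mp (hL k)
      have h2 : φ (x k - L) ∈ (I ^ k • ⊤ : Submodule R N) := by
        have := Submodule.mem_map_of_mem (f := φ) hd
        rw [Submodule.map_smul''] at this
        exact Submodule.smul_mono le_rfl le_top this
      rw [show φ L - y = -(φ (x k - L)) - (ψ ^ k) y by rw [map_sub, hx]; abel]
      exact Submodule.sub_mem _ (Submodule.neg_mem _ h2) (hpow k y)
  exact (LinearEquiv.rTensor M (LinearEquiv.ofBijective φ hbij)).map_eq_zero_iff.mp hξ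

variable {S : Type u} [CommRing S] [Algebra R S] [Module S N] [IsScalarTower R S N]

theorem sup_map_ne_top (hinj : ∀ φ : N →ₗ[R] N, (∀ n, φ n - n ∈ I • (⊤ : Submodule R N)) →
      ∀ ξ : N ⊗[R] M, φ.rTensor M ξ = 0 → ξ = 0)
    (q : Ideal S) (hq : q ∈ FlatCA.ass S (N ⊗[R] M)) : q ⊔ I.map (algebraMap R S) ≠ ⊤ := by
  intro htop
  obtain ⟨hprime, ξ, rfl⟩ := hq
  obtain ⟨f, hf, b, hb, hfb⟩ := Submodule.mem_sup.mp (htop.symm ▸ Submodule.mem_top : (1 : S) ∈ _ ⊔ I.map (algebraMap R S))
  have hfξ : f • ξ = 0 := Submodule.mem_annihilator_span_singleton _ _ |>.mp hf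
  let φ : N →ₗ[R] N := (LinearMap.lsmul S N f).restrictScalars R
  have hsub : ∀ a ∈ I.map (algebraMap R S), ∀ n : N, a • n ∈ I • (⊤ : Submodule R N) := by
    intro a ha
    induction ha using Submodule.span_induction with
    | mem a ha =>
      obtain ⟨r, hr, rfl⟩ := ha
      intro n
      rw [algebraMap_smul]
      exact Submodule.smul_mem_smul hr Submodule.mem_top
    | zero => simp
    | add a c _ _ ha hc => intro n; rw [add_smul]; exact Submodule.add_mem _ (ha n) (hc n)
    | smul c a _ ha => intro n; rw [smul_eq_mul, mul_comm, mul_smul]; exact ha _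
  have hφ : ∀ n, φ n - n ∈ I • (⊤ : Submodule R N) := fun n => by
    rw [show φ n - n = -(b • n) by
      show f • n - n = _
      conv_lhs => rw [← one_smul S n, smul_smul, ← sub_smul, mul_one, ← hfb, sub_add_cancel_left, neg_smul]]
    exact Submodule.neg_mem _ (hsub b hb n)
  have heq : ∀ z : N ⊗[R] M, φ.rTensor M z = f • z := fun z => by
    induction z using TensorProduct.induction_on with
    | zero => simp
    | tmul n m => rfl
    | add a c ha hc => rw [map_add, ha, hc, smul_add]
  have hξ0 := hinj φ hφ ξ ((heq ξ).trans hfξ)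
  apply hprime.ne_top
  rw [hξ0, Ideal.eq_top_iff_one, Submodule.mem_annihilator_span_singleton, smul_zero]

end Groth.Agent.AssSupLib
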