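import Groth.Agent.AssSupLib.Basic

/-! Endomorphisms of projective modules over local rings that are injective on the closed fibre are
universally injective. -/

set_option autoImplicit false

universe u

open TensorProduct IsLocalRing

namespace Groth.Agent.AssSupLib

variable {R : Type u} [CommRing R] [IsLocalRing R]

theorem injective_rTensor_finite {A B : Type u} [AddCommGroup A] [Module R A] [AddCommGroup B] [Module R B]
    [Module.Finite R A] [Module.Finite R B] [Module.Free R B] (g : A →ₗ[R] B)
    (hg : Function.Injective (g.lTensor (ResidueField R))) (M : Type u) [AddCommGroup M] [Module R M] :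
    Function.Injective (g.rTensor M) := by
  obtain ⟨g', hg'⟩ := (IsLocalRing.split_injective_iff_lTensor_residueField_injective g).mpr hg
  exact Function.HasLeftInverse.injective ⟨g'.rTensor M, fun z => by
    rw [← LinearMap.comp_apply, ← LinearMap.rTensor_comp, hg', LinearMap.rTensor_id, LinearMap.id_apply]⟩

theorem eq_zero_of_supported {α : Type u} (φ : (α →₀ R) →ₗ[R] (α →₀ R))
    (hφ : Function.Injective (φ.lTensor (ResidueField R))) (t t' : Set α) [Finite t] [Finite t']
    (g : Finsupp.supported R R t →ₗ[R] Finsupp.supported R R t')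
    (hg : (Finsupp.supported R R t').subtype ∘ₗ g = φ ∘ₗ (Finsupp.supported R R t).subtype)
    (M : Type u) [AddCommGroup M] [Module R M] (η : Finsupp.supported R R t ⊗[R] M)
    (hη : φ.rTensor M ((Finsupp.supported R R t).subtype.rTensor M η) = 0) : η = 0 := by
  classical
  haveI : Module.Finite R (Finsupp.supported R R t) := Module.Finite.equiv (Finsupp.supportedEquivFinsupp t).symm
  haveI : Module.Finite R (Finsupp.supported R R t') := Module.Finite.equiv (Finsupp.supportedEquivFinsupp t').symm
  haveI : Module.Free R (Finsupp.supported R R t') := Module.Free.of_equiv (Finsupp.supportedEquivFinsupp t').symm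
  have hsub : ∀ (t : Set α), Function.Injective ((Finsupp.supported R R t).subtype.lTensor (ResidueField R)) := fun t =>
    Function.HasLeftInverse.injective ⟨(Finsupp.restrictDom R R t).lTensor (ResidueField R), fun z => by
      rw [← LinearMap.lTensor_comp_apply, Finsupp.restrictDom_comp_subtype, LinearMap.lTensor_id, LinearMap.id_apply]⟩
  have hginj : Function.Injective (g.lTensor (ResidueField R)) := fun z w hzw => by
    have h := congrArg ((Finsupp.supported R R t').subtype.lTensor (ResidueField R)) hzw
    rw [← LinearMap.lTensor_comp_apply, ← LinearMap.lTensor_comp_apply, hg, LinearMap.lTensor_comp_apply,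
      LinearMap.lTensor_comp_apply] at h
    exact hsub t (hφ h)
  rw [← LinearMap.rTensor_comp_apply, ← hg, LinearMap.rTensor_comp_apply] at hη
  have h2 := congrArg ((Finsupp.restrictDom R R t').rTensor M) hη
  rw [← LinearMap.rTensor_comp_apply, Finsupp.restrictDom_comp_subtype, LinearMap.rTensor_id, LinearMap.id_apply,
    map_zero] at h2
  have hinj := injective_rTensor_finite (A := ↥(Finsupp.supported R R t)) (B := ↥(Finsupp.supported R R t')) g hginj M
  exact hinj (h2.trans (map_zero _).symm)

theorem injective_rTensor_free {α : Type u} (φ : (α →₀ R) →ₗ[R] (α →₀ R))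
    (hφ : Function.Injective (φ.lTensor (ResidueField R))) (M : Type u) [AddCommGroup M] [Module R M] :
    Function.Injective (φ.rTensor M) := by
  classical
  rw [injective_iff_map_eq_zero]
  intro ξ hξ
  obtain ⟨s, hs⟩ := exists_mem_range M ξ
  obtain ⟨t, ht⟩ : ∃ t : Finset α, ∀ n ∈ s, n.support ⊆ t :=
    ⟨s.biUnion Finsupp.support, fun n hn => Finset.subset_biUnion_of_mem Finsupp.support hn⟩
  obtain ⟨η, rfl⟩ := hs (Finsupp.supported R R (t : Set α)) fun n hn =>
    (Finsupp.mem_supported R n).mpr (Finset.coe_subset.mpr (ht n hn))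
  obtain ⟨t', ht'⟩ : ∃ t' : Finset α, ∀ a ∈ t, (φ (Finsupp.single a 1)).support ⊆ t' :=
    ⟨t.biUnion fun a => (φ (Finsupp.single a 1)).support,
      fun a ha => Finset.subset_biUnion_of_mem (fun a => (φ (Finsupp.single a (1 : R))).support) ha⟩
  have hle : Finsupp.supported R R (t : Set α) ≤ Submodule.comap φ (Finsupp.supported R R (t' : Set α)) := by
    rw [Finsupp.supported_eq_span_single, Submodule.span_le]
    rintro _ ⟨a, ha, rfl⟩
    exact (Finsupp.mem_supported R _).mpr (Finset.coe_subset.mpr (ht' a ha))
  rw [eq_zero_of_supported φ hφ _ _ ((φ ∘ₗ (Finsupp.supported R R (t : Set α)).subtype).codRestrict _ fun x => hle x.2)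
    (LinearMap.subtype_comp_codRestrict _ _ _) M η hξ, map_zero]

theorem injective_rTensor_of_projective {N : Type u} [AddCommGroup N] [Module R N] [Module.Projective R N]
    (φ : N →ₗ[R] N) (hφ : Function.Injective (φ.lTensor (ResidueField R))) (M : Type u) [AddCommGroup M] [Module R M] :
    Function.Injective (φ.rTensor M) := by
  obtain ⟨s, hs⟩ := Module.projective_def'.mp ‹Module.Projective R N›
  let π : (N →₀ R) →ₗ[R] N := Finsupp.linearCombination R id
  let ψ : (N →₀ R) →ₗ[R] (N →₀ R) := s ∘ₗ φ ∘ₗ π + (LinearMap.id - s ∘ₗ π)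
  have hπs : π ∘ₗ s = LinearMap.id := hs
  have hπs' : ∀ n, π (s n) = n := fun n => LinearMap.congr_fun hπs n
  have h1 : ψ ∘ₗ s = s ∘ₗ φ := LinearMap.ext fun n => by simp [ψ, hπs']
  have h2 : π ∘ₗ ψ = φ ∘ₗ π := LinearMap.ext fun n => by simp [ψ, hπs']
  have hψ : Function.Injective (ψ.lTensor (ResidueField R)) := (injective_iff_map_eq_zero _).mpr fun z hz => by
    have h3 : π.lTensor (ResidueField R) z = 0 := by
      apply hφ
      rw [← LinearMap.comp_apply, ← LinearMap.lTensor_comp, ← h2, LinearMap.lTensor_comp, LinearMap.comp_apply, hz, map_zero,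
        map_zero]
    have h4 : ψ.lTensor (ResidueField R) z = z := by
      simp [ψ, LinearMap.lTensor_add, LinearMap.lTensor_sub, LinearMap.lTensor_comp, h3]
    exact h4 ▸ hz
  refine Function.Injective.of_comp (f := s.rTensor M) ?_
  rw [← LinearMap.coe_comp, ← LinearMap.rTensor_comp, ← h1, LinearMap.rTensor_comp, LinearMap.coe_comp]
  exact (injective_rTensor_free ψ hψ M).comp (Function.HasLeftInverse.injective ⟨π.rTensor M, fun z => by
    rw [← LinearMap.comp_apply, ← LinearMap.rTensor_comp, hπs, LinearMap.rTensor_id, LinearMap.id_apply]⟩)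

end Groth.Agent.AssSupLib
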