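import Mathlib

/-! Support of a base change of a finite module (copy of FibreDepth.support_baseChange with light imports). -/

set_option autoImplicit false

universe u

open TensorProduct

namespace Groth.Agent.AssSupLib

variable {R R' : Type u} [CommRing R] [CommRing R'] [Algebra R R']
  {N : Type u} [AddCommGroup N] [Module R N] [Module.Finite R N]

theorem support_baseChange :
    Module.support R' (R' ⊗[R] N) =
      PrimeSpectrum.zeroLocus (((Module.annihilator R N).map (algebraMap R R') : Ideal R') : Set R') := by
  refine subset_antisymm ?_ fun Q hQ => ?_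
  · rw [Module.support_eq_zeroLocus]
    refine PrimeSpectrum.zeroLocus_anti_mono_ideal (Ideal.map_le_iff_le_comap.2 fun a ha => ?_)
    refine Module.mem_annihilator.2 fun z => ?_
    rw [algebraMap_smul]
    induction z with
    | zero => simp
    | tmul x y => rw [← tmul_smul, Module.mem_annihilator.1 ha, tmul_zero]
    | add x y hx hy => rw [smul_add, hx, hy, add_zero]
  · let p : PrimeSpectrum R := PrimeSpectrum.comap (algebraMap R R') Q
    have hp : p ∈ Module.support R N := by
      rw [Module.support_eq_zeroLocus]
      exact Ideal.map_le_iff_le_comap.1 hQ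
    rw [Module.mem_support_iff_nontrivial_residueField_tensorProduct] at hp ⊢
    letI : Algebra p.asIdeal.ResidueField Q.asIdeal.ResidueField :=
      (Ideal.ResidueField.mapₐ p.asIdeal Q.asIdeal (Algebra.ofId R R') rfl).toRingHom.toAlgebra
    haveI : IsScalarTower R p.asIdeal.ResidueField Q.asIdeal.ResidueField := .of_algebraMap_eq fun a =>
      ((Ideal.ResidueField.mapₐ p.asIdeal Q.asIdeal (Algebra.ofId R R') rfl).commutes a).symm
    have h1 : Nontrivial (Q.asIdeal.ResidueField ⊗[p.asIdeal.ResidueField] (p.asIdeal.ResidueField ⊗[R] N)) :=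
      inferInstance
    let e₁ : Q.asIdeal.ResidueField ⊗[R'] (R' ⊗[R] N) ≃ₗ[R'] Q.asIdeal.ResidueField ⊗[R] N :=
      AlgebraTensorModule.cancelBaseChange R R' R' Q.asIdeal.ResidueField N
    let e₂ : Q.asIdeal.ResidueField ⊗[p.asIdeal.ResidueField] (p.asIdeal.ResidueField ⊗[R] N) ≃ₗ[p.asIdeal.ResidueField]
        Q.asIdeal.ResidueField ⊗[R] N :=
      AlgebraTensorModule.cancelBaseChange R p.asIdeal.ResidueField p.asIdeal.ResidueField Q.asIdeal.ResidueField N
    exact (e₁.toEquiv.trans e₂.toEquiv.symm).nontrivial

end Groth.Agent.AssSupLib
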